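import Cfsg.Agent.Lib.Recog.DegreeSquare.Degrees
import Cfsg.Agent.Lib.Char.Galois
import Cfsg.Agent.S0165

/-!
# Element orders of a group with the degrees of `PSL₂(q)`, `q = 2 a - 1`, `a` odd
-/

set_option autoImplicit false
set_option linter.unusedSectionVars false
set_option linter.style.haveILetI false

namespace Cfsg.Lib.DegreeSquare

open Cfsg Cfsg.Lib.Char
open scoped ComplexConjugate

universe u

variable {G : Type u} [Group G] [Finite G]

/-- An irreducible character of full `r`-defect zero vanishes at elements of order divisible by `r`. -/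
theorem vanish_of_dvd (χ : IrrCharacter G) {d r : ℕ} (hd : (χ : G → ℂ) 1 = (d : ℂ)) (hr : r.Prime)
    (h : ∀ n, r ^ n ∣ Nat.card G → r ^ n ∣ d) {g : G} (hg : r ∣ orderOf g) : (χ : G → ℂ) g = 0 := by
  obtain ⟨n, ρ, hρ, he⟩ := χ.2
  haveI := hρ
  have hn : n = d := by
    have h1 : ρ.character 1 = (n : ℂ) := by simp
    rw [he, hd] at h1
    exact_mod_cast h1.symm
  rw [← he]
  refine Cfsg.Agent.S0165.result ρ r ((Nat.card G).factorization r) hr (Nat.ordProj_dvd _ _)
    (Nat.pow_succ_factorization_not_dvd Nat.card_pos.ne' hr) ?_ g hg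
  rw [Module.finrank_pi, Fintype.card_fin, hn]
  exact h _ (Nat.ordProj_dvd _ _)

/-- The first column of `PSL₂(q)` for `q = 2 a - 1` with `a` odd. -/
structure Data (G : Type u) [Group G] (q a : ℕ) : Prop where
  card : Nat.card G = q * a * (q - 1)
  qa : q + 1 = 2 * a
  aodd : Odd a
  nine : 9 ≤ q
  one : ∀ χ : IrrCharacter G, (χ : G → ℂ) 1 = 1 → ∀ g, (χ : G → ℂ) g = 1
  st : ∀ χ ψ : IrrCharacter G, (χ : G → ℂ) 1 = (q : ℂ) → (ψ : G → ℂ) 1 = (q : ℂ) → χ = ψ
  exists_st : ∃ χ : IrrCharacter G, (χ : G → ℂ) 1 = (q : ℂ)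
  deg : ∀ χ : IrrCharacter G, (χ : G → ℂ) 1 = 1 ∨ (χ : G → ℂ) 1 = (q : ℂ) ∨
    (χ : G → ℂ) 1 = ((q + 1 : ℕ) : ℂ) ∨ (χ : G → ℂ) 1 = ((q - 1 : ℕ) : ℂ) ∨ (χ : G → ℂ) 1 = (a : ℂ)

variable {q a : ℕ}

theorem Data.coprime_q (D : Data G q a) : q.Coprime (q - 1) ∧ q.Coprime a ∧ a.Coprime (q - 1) := by
  have := D.qa
  have := D.nine
  refine ⟨?_, ?_, ?_⟩
  · exact ((Nat.coprime_self_sub_left (show 1 ≤ q by omega)).2 (Nat.coprime_one_left q)).symm
  · refine Nat.eq_one_of_dvd_one ?_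
    have h1 : Nat.gcd q a ∣ q + 1 := (Nat.gcd_dvd_right q a).trans ⟨2, by omega⟩
    exact (Nat.dvd_add_right (Nat.gcd_dvd_left q a)).1 h1
  · have h1 : Nat.gcd a (q - 1) ∣ 2 := by
      have h2 : Nat.gcd a (q - 1) ∣ 2 * a := (Nat.gcd_dvd_left a (q - 1)).mul_left 2
      rw [show 2 * a = (q - 1) + 2 by omega] at h2
      exact (Nat.dvd_add_right (Nat.gcd_dvd_right a (q - 1))).1 h2
    rcases (Nat.dvd_prime Nat.prime_two).1 h1 with h | h
    · exact h
    · exfalso
      have h3 := Nat.gcd_dvd_left a (q - 1)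
      rw [h] at h3
      exact Nat.not_even_iff_odd.2 D.aodd (even_iff_two_dvd.2 h3)

/-- Splitting of a prime divisor of the group order. -/
theorem Data.prime_cases (D : Data G q a) {r : ℕ} (hr : r.Prime) (h : r ∣ Nat.card G) :
    r ∣ q ∨ r ∣ a ∨ r ∣ q - 1 := by
  rw [D.card] at h
  rcases (Nat.Prime.dvd_mul hr).1 h with h | h
  · rcases (Nat.Prime.dvd_mul hr).1 h with h | h
    · exact Or.inl h
    · exact Or.inr (Or.inl h)
  · exact Or.inr (Or.inr h)

theorem Data.vanish_a (D : Data G q a) (χ : IrrCharacter G)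
    (hχ : (χ : G → ℂ) 1 = ((q + 1 : ℕ) : ℂ) ∨ (χ : G → ℂ) 1 = (a : ℂ)) {r : ℕ} (hr : r.Prime)
    (hra : r ∣ a) {g : G} (hg : r ∣ orderOf g) : (χ : G → ℂ) g = 0 := by
  have key : ∀ n, r ^ n ∣ Nat.card G → r ^ n ∣ a := fun n hn => by
    rw [D.card, mul_comm q, mul_assoc] at hn
    exact (Nat.Coprime.pow_left n ((Nat.Coprime.coprime_dvd_left hra
      (D.coprime_q.2.1.symm.mul_right D.coprime_q.2.2)))).dvd_of_dvd_mul_right hn
  rcases hχ with h | h
  · exact vanish_of_dvd χ h hr (fun n hn => (key n hn).trans ⟨2, by rw [D.qa, mul_comm]⟩) hg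
  · exact vanish_of_dvd χ h hr key hg

theorem Data.vanish_m (D : Data G q a) (χ : IrrCharacter G)
    (hχ : (χ : G → ℂ) 1 = ((q - 1 : ℕ) : ℂ)) {r : ℕ} (hr : r.Prime) (hrm : r ∣ q - 1) {g : G}
    (hg : r ∣ orderOf g) : (χ : G → ℂ) g = 0 := by
  refine vanish_of_dvd χ hχ hr (fun n hn => ?_) hg
  rw [D.card] at hn
  exact (Nat.Coprime.pow_left n (Nat.Coprime.coprime_dvd_left hrm
    (D.coprime_q.1.symm.mul_right D.coprime_q.2.2.symm))).dvd_of_dvd_mul_left hn

theorem Data.vanish_q (D : Data G q a) (χ : IrrCharacter G)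
    (hχ : (χ : G → ℂ) 1 = (q : ℂ)) {r : ℕ} (hr : r.Prime) (hrq : r ∣ q) {g : G}
    (hg : r ∣ orderOf g) : (χ : G → ℂ) g = 0 := by
  refine vanish_of_dvd χ hχ hr (fun n hn => ?_) hg
  rw [D.card, mul_assoc] at hn
  exact (Nat.Coprime.pow_left n (Nat.Coprime.coprime_dvd_left hrq
    (D.coprime_q.2.1.mul_right D.coprime_q.1))).dvd_of_dvd_mul_right hn

/-- The column relation at a non-identity element modulo `n`. -/
theorem Data.column_dvd (D : Data G q a) {g : G} (hg : g ≠ 1) (χ₀ : IrrCharacter G)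
    (h0 : (χ₀ : G → ℂ) 1 = (q : ℂ)) {m : ℤ} (hm : (χ₀ : G → ℂ) g = m) (n : ℕ) (hn : n ≠ 0)
    (h : ∀ χ : IrrCharacter G, (χ : G → ℂ) g = 0 ∨ (χ : G → ℂ) 1 = 1 ∨ (χ : G → ℂ) 1 = (q : ℂ) ∨
      ∃ d : ℕ, (χ : G → ℂ) 1 = (d : ℂ) ∧ n ∣ d) : (n : ℤ) ∣ 1 + (q : ℤ) * m := by
  classical
  haveI := Fintype.ofFinite G
  set τ : IrrCharacter G := ⟨fun _ => 1, isIrrCharacter_one⟩ with hτ
  have hne : τ ≠ χ₀ := fun e => by
    have : (χ₀ : G → ℂ) 1 = 1 := by rw [← e]
    rw [h0] at this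
    have := D.nine
    have : q = 1 := by exact_mod_cast ‹(q : ℂ) = 1›
    omega
  have hsum : ∑ χ : IrrCharacter G, (χ : G → ℂ) 1 * (χ : G → ℂ) g = 0 := by
    rw [sum_degree_mul, if_neg hg]
  have hterm : ∀ χ ∈ Finset.univ \ {τ, χ₀}, ∃ w : ℂ, IsIntegral ℤ w ∧
      (χ : G → ℂ) 1 * (χ : G → ℂ) g = (n : ℂ) * w := by
    intro χ hχ
    simp only [Finset.mem_sdiff, Finset.mem_univ, true_and, Finset.mem_insert,
      Finset.mem_singleton, not_or] at hχ
    rcases h χ with e | e | e | ⟨d, e, k, rfl⟩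
    · exact ⟨0, isIntegral_zero, by rw [e, mul_zero, mul_zero]⟩
    · exact absurd (Subtype.ext (funext fun x => D.one χ e x)) hχ.1
    · exact absurd (D.st χ χ₀ e h0) hχ.2
    · refine ⟨(k : ℂ) * (χ : G → ℂ) g, ?_, by rw [e]; push_cast; ring⟩
      exact IsIntegral.mul (by exact_mod_cast (isIntegral_algebraMap (R := ℤ) (x := (k : ℤ)) : _))
        (χ.2.isCharacter.isIntegral g)
  choose! w hw hwe using hterm
  have hsplit := Finset.sum_sdiff (f := fun χ : IrrCharacter G => (χ : G → ℂ) 1 * (χ : G → ℂ) g)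
    (Finset.subset_univ ({τ, χ₀} : Finset (IrrCharacter G)))
  rw [Finset.sum_pair hne, hsum, Finset.sum_congr rfl hwe, ← Finset.mul_sum, h0, hm] at hsplit
  set W := ∑ χ ∈ Finset.univ \ {τ, χ₀}, w χ with hW
  have hWint : IsIntegral ℤ W := IsIntegral.sum _ hw
  have hWe : (n : ℂ) * W + ((1 : ℂ) + (q : ℂ) * (m : ℂ)) = 0 := by
    rw [← hsplit, hτ]
    ring
  have hrat : IsIntegral ℤ ((((-(1 + (q : ℤ) * m) : ℤ) : ℚ) / (n : ℚ) : ℚ) : ℂ) := by
    convert hWint using 1
    push_cast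
    field_simp
    linear_combination -hWe
  obtain ⟨z, hz⟩ := exists_int_of_isIntegral_rat hrat
  refine ⟨-z, ?_⟩
  rw [div_eq_iff (by exact_mod_cast hn)] at hz
  have : (-(1 + (q : ℤ) * m) : ℤ) = z * (n : ℤ) := by exact_mod_cast hz
  linarith

/-- No element order involves two of the three sets of primes. -/
theorem Data.no_mixed (D : Data G q a) {g : G} {r s : ℕ} (hr : r.Prime) (hs : s.Prime)
    (hrg : r ∣ orderOf g) (hsg : s ∣ orderOf g)
    (h : (r ∣ a ∧ s ∣ q - 1) ∨ (r ∣ a ∧ s ∣ q) ∨ (r ∣ q - 1 ∧ s ∣ q)) : False := by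
  have := D.qa
  have := D.nine
  obtain ⟨χ₀, h0⟩ := D.exists_st
  have hg : g ≠ 1 := fun e => by
    rw [e, orderOf_one] at hrg
    exact hr.not_dvd_one hrg
  rcases h with ⟨hra, hsm⟩ | ⟨hra, hsq⟩ | ⟨hrm, hsq⟩
  · -- degrees `q + 1`, `a`, `q - 1` vanish
    classical
    haveI := Fintype.ofFinite G
    set τ : IrrCharacter G := ⟨fun _ => 1, isIrrCharacter_one⟩ with hτ
    have hne : τ ≠ χ₀ := fun e => by
      have h1 : (χ₀ : G → ℂ) 1 = 1 := by rw [← e]
      rw [h0] at h1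
      have : q = 1 := by exact_mod_cast h1
      omega
    have hsum : ∑ χ : IrrCharacter G, (χ : G → ℂ) 1 * (χ : G → ℂ) g = 0 := by
      rw [sum_degree_mul, if_neg hg]
    rw [← Finset.sum_subset (Finset.subset_univ ({τ, χ₀} : Finset (IrrCharacter G))),
      Finset.sum_pair hne, h0] at hsum
    · have hint := χ₀.2.isCharacter.isIntegral g
      rw [show (χ₀ : G → ℂ) g = (((-1 / (q : ℚ)) : ℚ) : ℂ) by
        push_cast
        have hq0 : (q : ℂ) ≠ 0 := by exact_mod_cast (show q ≠ 0 by omega)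
        field_simp
        linear_combination hsum] at hint
      obtain ⟨z, hz⟩ := exists_int_of_isIntegral_rat hint
      rw [div_eq_iff (by exact_mod_cast (show q ≠ 0 by omega))] at hz
      have hz' : (-1 : ℤ) = z * (q : ℤ) := by exact_mod_cast hz
      have : (q : ℤ) ∣ 1 := ⟨-z, by linarith⟩
      have := Int.le_of_dvd one_pos this
      omega
    · intro χ _ hχ
      simp only [Finset.mem_insert, Finset.mem_singleton, not_or] at hχ
      rcases D.deg χ with e | e | e | e | e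
      · exact absurd (Subtype.ext (funext fun x => D.one χ e x)) hχ.1
      · exact absurd (D.st χ χ₀ e h0) hχ.2
      · rw [D.vanish_a χ (Or.inl e) hr hra hrg, mul_zero]
      · rw [D.vanish_m χ e hs hsm hsg, mul_zero]
      · rw [D.vanish_a χ (Or.inr e) hr hra hrg, mul_zero]
  · have hz : (χ₀ : G → ℂ) g = ((0 : ℤ) : ℂ) := by rw [D.vanish_q χ₀ h0 hs hsq hsg, Int.cast_zero]
    have := D.column_dvd hg χ₀ h0 hz (q - 1) (by omega) fun χ => by
      rcases D.deg χ with e | e | e | e | e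
      · exact Or.inr (Or.inl e)
      · exact Or.inr (Or.inr (Or.inl e))
      · exact Or.inl (D.vanish_a χ (Or.inl e) hr hra hrg)
      · exact Or.inr (Or.inr (Or.inr ⟨_, e, dvd_rfl⟩))
      · exact Or.inl (D.vanish_a χ (Or.inr e) hr hra hrg)
    rw [mul_zero, add_zero] at this
    have := Int.le_of_dvd one_pos this
    omega
  · have hz : (χ₀ : G → ℂ) g = ((0 : ℤ) : ℂ) := by rw [D.vanish_q χ₀ h0 hs hsq hsg, Int.cast_zero]
    have := D.column_dvd hg χ₀ h0 hz a (by omega) fun χ => by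
      rcases D.deg χ with e | e | e | e | e
      · exact Or.inr (Or.inl e)
      · exact Or.inr (Or.inr (Or.inl e))
      · exact Or.inr (Or.inr (Or.inr ⟨_, e, ⟨2, by omega⟩⟩))
      · exact Or.inl (D.vanish_m χ e hr hrm hrg)
      · exact Or.inr (Or.inr (Or.inr ⟨_, e, dvd_rfl⟩))
    rw [mul_zero, add_zero] at this
    have := Int.le_of_dvd one_pos this
    omega

/-- The centralisers are pure. -/
theorem Data.cent_dvd (D : Data G q a) {g : G} {r : ℕ} (hr : r.Prime) (hrg : r ∣ orderOf g) :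
    (r ∣ a → Nat.card (Subgroup.centralizer ({g} : Set G)) ∣ a) ∧
      (r ∣ q - 1 → Nat.card (Subgroup.centralizer ({g} : Set G)) ∣ q - 1) ∧
      (r ∣ q → Nat.card (Subgroup.centralizer ({g} : Set G)) ∣ q) := by
  set C := Subgroup.centralizer ({g} : Set G) with hC
  have hCG : Nat.card C ∣ q * a * (q - 1) := D.card ▸ Subgroup.card_subgroup_dvd_card C
  -- an element whose order involves two given primes
  have key : ∀ s : ℕ, s.Prime → s ∣ Nat.card C → s ≠ r → ∃ y : G, r ∣ orderOf y ∧ s ∣ orderOf y := by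
    intro s hs hsC hne
    haveI := Fact.mk hs
    obtain ⟨y, hy⟩ := exists_prime_orderOf_dvd_card' s hsC
    have hyo : orderOf (y : G) = s := by rw [Subgroup.orderOf_coe, hy]
    obtain ⟨k, hk⟩ := hrg
    have hxo : orderOf (g ^ k) = r := by
      have h0 : k ≠ 0 := by
        rintro rfl
        rw [mul_zero] at hk
        exact (orderOf_pos g).ne' hk
      rw [orderOf_pow_of_dvd h0 ⟨r, by rw [hk, mul_comm]⟩, hk,
        Nat.mul_div_cancel _ (Nat.pos_of_ne_zero h0)]
    have hcomm : Commute (g ^ k) (y : G) :=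
      Commute.pow_left (Subgroup.mem_centralizer_singleton_iff.1 y.2).symm k
    refine ⟨g ^ k * y, ?_⟩
    rw [hcomm.orderOf_mul_eq_mul_orderOf_of_coprime
      (by rw [hxo, hyo]; exact (Nat.coprime_primes hr hs).2 hne.symm), hxo, hyo]
    exact ⟨dvd_mul_right _ _, dvd_mul_left _ _⟩
  refine ⟨fun h => ?_, fun h => ?_, fun h => ?_⟩
  · have hcq : (Nat.card C).Coprime q := Nat.coprime_of_dvd fun s hs hsC hsq => by
      have hne : s ≠ r := fun e => by
        subst e
        exact hs.not_dvd_one (D.coprime_q.2.1 ▸ Nat.dvd_gcd hsq h)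
      obtain ⟨y, hy, hy'⟩ := key s hs hsC hne
      exact D.no_mixed hr hs hy hy' (Or.inr (Or.inl ⟨h, hsq⟩))
    have hcm : (Nat.card C).Coprime (q - 1) := Nat.coprime_of_dvd fun s hs hsC hsq => by
      have hne : s ≠ r := fun e => by
        subst e
        exact hs.not_dvd_one (D.coprime_q.2.2 ▸ Nat.dvd_gcd h hsq)
      obtain ⟨y, hy, hy'⟩ := key s hs hsC hne
      exact D.no_mixed hr hs hy hy' (Or.inl ⟨h, hsq⟩)
    exact hcq.dvd_of_dvd_mul_left (hcm.dvd_of_dvd_mul_right hCG)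
  · have hcq : (Nat.card C).Coprime q := Nat.coprime_of_dvd fun s hs hsC hsq => by
      have hne : s ≠ r := fun e => by
        subst e
        exact hs.not_dvd_one (D.coprime_q.1 ▸ Nat.dvd_gcd hsq h)
      obtain ⟨y, hy, hy'⟩ := key s hs hsC hne
      exact D.no_mixed hr hs hy hy' (Or.inr (Or.inr ⟨h, hsq⟩))
    have hca : (Nat.card C).Coprime a := Nat.coprime_of_dvd fun s hs hsC hsa => by
      have hne : s ≠ r := fun e => by
        subst e
        exact hs.not_dvd_one (D.coprime_q.2.2 ▸ Nat.dvd_gcd hsa h)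
      obtain ⟨y, hy, hy'⟩ := key s hs hsC hne
      exact D.no_mixed hs hr hy' hy (Or.inl ⟨hsa, h⟩)
    exact (hcq.mul_right hca).dvd_of_dvd_mul_left hCG
  · have hca : (Nat.card C).Coprime a := Nat.coprime_of_dvd fun s hs hsC hsa => by
      have hne : s ≠ r := fun e => by
        subst e
        exact hs.not_dvd_one (D.coprime_q.2.1 ▸ Nat.dvd_gcd h hsa)
      obtain ⟨y, hy, hy'⟩ := key s hs hsC hne
      exact D.no_mixed hs hr hy' hy (Or.inr (Or.inl ⟨hsa, h⟩))
    have hcm : (Nat.card C).Coprime (q - 1) := Nat.coprime_of_dvd fun s hs hsC hsm => by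
      have hne : s ≠ r := fun e => by
        subst e
        exact hs.not_dvd_one (D.coprime_q.1 ▸ Nat.dvd_gcd h hsm)
      obtain ⟨y, hy, hy'⟩ := key s hs hsC hne
      exact D.no_mixed hs hr hy' hy (Or.inr (Or.inr ⟨hsm, h⟩))
    exact hca.dvd_of_dvd_mul_right (hcm.dvd_of_dvd_mul_right hCG)

/-- The Steinberg-like character is `±1` away from the elements of order divisible by a prime of `q`. -/
theorem Data.st_sq (D : Data G q a) (χ₀ : IrrCharacter G) (h0 : (χ₀ : G → ℂ) 1 = (q : ℂ)) {g : G}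
    (hg : g ≠ 1) (hgq : ∀ r : ℕ, r.Prime → r ∣ q → ¬ r ∣ orderOf g) :
    (χ₀ : G → ℂ) g * conj ((χ₀ : G → ℂ) g) = 1 := by
  classical
  haveI := Fintype.ofFinite G
  have := D.qa
  have := D.nine
  obtain ⟨m, hm⟩ := exists_int_of_pow_invariant χ₀.2.isCharacter g fun k hk => by
    have := D.st ⟨_, isIrrCharacter_comp_pow hk χ₀.2⟩ χ₀ (by simpa using h0) h0
    exact congrFun (congrArg Subtype.val this) g
  obtain ⟨r, hr, hrg⟩ := Nat.exists_prime_and_dvd (fun h => hg (orderOf_eq_one_iff.1 h))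
  have hbd : (m : ℝ) ^ 2 ≤ Nat.card (Subgroup.centralizer ({g} : Set G)) := by
    have hcol := congrArg Complex.re (column_orthogonality g g)
    rw [if_pos (IsConj.refl g), Complex.re_sum, Complex.natCast_re] at hcol
    rw [← hcol]
    refine le_trans (le_of_eq ?_) (Finset.single_le_sum (f := fun χ : IrrCharacter G =>
      ((χ : G → ℂ) g * conj ((χ : G → ℂ) g)).re) (fun χ _ => ?_) (Finset.mem_univ χ₀))
    · simp [hm, sq]
    · rw [Complex.mul_conj]
      simpa using Complex.normSq_nonneg _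
  have hbd' : m ^ 2 ≤ (Nat.card (Subgroup.centralizer ({g} : Set G)) : ℤ) := by exact_mod_cast hbd
  rcases D.prime_cases hr (hrg.trans (orderOf_dvd_natCard g)) with h | h | h
  · exact absurd hrg (hgq r hr h)
  · have hC : Nat.card (Subgroup.centralizer ({g} : Set G)) ≤ a :=
      Nat.le_of_dvd (by omega) ((D.cent_dvd hr hrg).1 h)
    have hd := D.column_dvd hg χ₀ h0 hm (q - 1) (by omega) fun χ => by
      rcases D.deg χ with e | e | e | e | e
      · exact Or.inr (Or.inl e)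
      · exact Or.inr (Or.inr (Or.inl e))
      · exact Or.inl (D.vanish_a χ (Or.inl e) hr h hrg)
      · exact Or.inr (Or.inr (Or.inr ⟨_, e, dvd_rfl⟩))
      · exact Or.inl (D.vanish_a χ (Or.inr e) hr h hrg)
    have hd' : ((q - 1 : ℕ) : ℤ) ∣ 1 + m := by
      rw [show 1 + (q : ℤ) * m = (1 + m) + ((q - 1 : ℕ) : ℤ) * m by
        push_cast [show 1 ≤ q by omega]; ring] at hd
      exact (dvd_add_left (dvd_mul_right _ _)).1 hd
    have : m = -1 := by
      by_contra hne
      have hle := Int.le_of_dvd (abs_pos.2 (show (1 + m : ℤ) ≠ 0 by omega)) ((dvd_abs _ _).2 hd')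
      have habs : (q : ℤ) - 2 ≤ |m| := by
        have := abs_add_le (1 : ℤ) m
        simp only [abs_one] at this
        omega
      have hsq : ((q : ℤ) - 2) * ((q : ℤ) - 2) ≤ m ^ 2 := by
        rw [← sq_abs m, sq]
        exact mul_le_mul habs habs (by omega) (abs_nonneg m)
      nlinarith
    rw [hm, this]
    simp
  · have hC : Nat.card (Subgroup.centralizer ({g} : Set G)) ≤ q - 1 :=
      Nat.le_of_dvd (by omega) ((D.cent_dvd hr hrg).2.1 h)
    have hd := D.column_dvd hg χ₀ h0 hm a (by omega) fun χ => by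
      rcases D.deg χ with e | e | e | e | e
      · exact Or.inr (Or.inl e)
      · exact Or.inr (Or.inr (Or.inl e))
      · exact Or.inr (Or.inr (Or.inr ⟨_, e, ⟨2, by omega⟩⟩))
      · exact Or.inl (D.vanish_m χ e hr h hrg)
      · exact Or.inr (Or.inr (Or.inr ⟨_, e, dvd_rfl⟩))
    have hd' : (a : ℤ) ∣ 1 - m := by
      rw [show 1 + (q : ℤ) * m = (1 - m) + (a : ℤ) * (2 * m) by
        rw [show (q : ℤ) = 2 * (a : ℤ) - 1 by omega]; ring] at hd
      exact (dvd_add_left (dvd_mul_right _ _)).1 hd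
    have : m = 1 := by
      by_contra hne
      have hle := Int.le_of_dvd (abs_pos.2 (show (1 - m : ℤ) ≠ 0 by omega)) ((dvd_abs _ _).2 hd')
      have habs : (a : ℤ) - 1 ≤ |m| := by
        have := abs_sub (1 : ℤ) m
        simp only [abs_one] at this
        omega
      have hsq : ((a : ℤ) - 1) * ((a : ℤ) - 1) ≤ m ^ 2 := by
        rw [← sq_abs m, sq]
        exact mul_le_mul habs habs (by omega) (abs_nonneg m)
      have ha5 : (5 : ℤ) ≤ a := by omega
      have hC' : (Nat.card (Subgroup.centralizer ({g} : Set G)) : ℤ) ≤ 2 * (a : ℤ) - 2 := by omega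
      nlinarith
    rw [hm, this]
    simp

/-- The number of elements of order divisible by a prime of `q`. -/
theorem Data.card_singular (D : Data G q a) :
    Nat.card {g : G // ∃ r : ℕ, r.Prime ∧ r ∣ q ∧ r ∣ orderOf g} = q ^ 2 - 1 := by
  classical
  haveI := Fintype.ofFinite G
  have := D.nine
  obtain ⟨χ₀, h0⟩ := D.exists_st
  have hnorm := classInner_irr_self χ₀.2
  rw [classInner, inv_mul_eq_one₀ (card_cast_ne_zero (G := G))] at hnorm
  set S := Finset.univ.filter fun g : G => ∃ r : ℕ, r.Prime ∧ r ∣ q ∧ r ∣ orderOf g with hS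
  have h1S : (1 : G) ∉ S := by
    simp only [hS, Finset.mem_filter, Finset.mem_univ, true_and, orderOf_one]
    rintro ⟨r, hr, -, h⟩
    exact hr.not_dvd_one h
  have hval : ∀ g : G, (χ₀ : G → ℂ) g * conj ((χ₀ : G → ℂ) g) =
      if g = 1 then ((q ^ 2 : ℕ) : ℂ) else if g ∈ S then 0 else 1 := by
    intro g
    split_ifs with h1 h2
    · subst h1
      rw [h0, Complex.conj_natCast]
      push_cast
      ring
    · obtain ⟨r, hr, hrq, hrg⟩ := (Finset.mem_filter.1 h2).2
      rw [D.vanish_q χ₀ h0 hr hrq hrg, zero_mul]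
    · exact D.st_sq χ₀ h0 h1 fun r hr hrq hrg =>
        h2 (Finset.mem_filter.2 ⟨Finset.mem_univ _, r, hr, hrq, hrg⟩)
  rw [Finset.sum_congr rfl fun g _ => hval g,
    ← Finset.add_sum_erase _ _ (Finset.mem_univ (1 : G)), if_pos rfl,
    Finset.sum_congr rfl (fun g hg => if_neg (Finset.ne_of_mem_erase hg)),
    Finset.sum_ite, Finset.sum_const_zero, zero_add, Finset.sum_const, nsmul_one] at hnorm
  have hfil : (Finset.univ.erase (1 : G)).filter (fun g => ¬ g ∈ S) =
      Finset.univ \ insert 1 S := by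
    ext g
    simp [and_comm]
  rw [hfil, Finset.card_sdiff_of_subset (Finset.subset_univ _), Finset.card_insert_of_notMem h1S,
    Finset.card_univ] at hnorm
  have hle : S.card + 1 ≤ Fintype.card G := by
    rw [← Finset.card_insert_of_notMem h1S, ← Finset.card_univ]
    exact Finset.card_le_card (Finset.subset_univ _)
  have hn : Nat.card G = q ^ 2 + (Fintype.card G - (S.card + 1)) := by exact_mod_cast hnorm
  rw [Nat.card_eq_fintype_card] at hn
  have hq2 : 1 ≤ q ^ 2 := Nat.one_le_pow _ _ (by omega)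
  rw [Nat.subtype_card S (by simp [hS])]
  omega

end Cfsg.Lib.DegreeSquare
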