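import Cfsg.Agent.Lib.Recog.DegreeSquare.Defect
import Cfsg.Agent.S0742

/-!
# The action on the Sylow subgroups, and the recognition of `PSL₂(p²)`
-/

set_option autoImplicit false
set_option linter.unusedSectionVars false
set_option linter.style.haveILetI false

namespace Cfsg.Lib.DegreeSquare

open Cfsg MulAction

universe u

variable {G : Type u} [Group G] [Finite G] {p a : ℕ} [Fact p.Prime]

theorem Data.prime_of_dvd_sq {r : ℕ} (hr : r.Prime) (h : r ∣ p ^ 2) : r = p :=
  (Nat.prime_dvd_prime_iff_eq hr Fact.out).1 (hr.dvd_of_dvd_pow h)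

theorem Data.sylow_card (D : Data G (p ^ 2) a) (P : Sylow p G) :
    Nat.card (P : Subgroup G) = p ^ 2 := by
  rw [P.card_eq_multiplicity]
  obtain ⟨h1, h2, -⟩ := D.coprime_q
  have hp : p.Prime := Fact.out
  have hcop : p.Coprime (a * (p ^ 2 - 1)) :=
    Nat.Coprime.coprime_dvd_left (dvd_pow_self p two_ne_zero) (h2.mul_right h1)
  have hm0 : a * (p ^ 2 - 1) ≠ 0 := by
    intro h0
    rw [h0, Nat.coprime_zero_right] at hcop
    exact hp.ne_one hcop
  rw [D.card, mul_assoc, Nat.factorization_mul (pow_ne_zero _ hp.ne_zero) hm0, Finsupp.add_apply,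
    hp.factorization_pow, Finsupp.single_eq_same,
    Nat.factorization_eq_zero_of_not_dvd ((hp.coprime_iff_not_dvd).1 hcop)]

theorem Data.mem_singular (D : Data G (p ^ 2) a) {P : Sylow p G} {x : G}
    (hx : x ∈ (P : Subgroup G)) (h1 : x ≠ 1) : p ∣ orderOf x := by
  obtain ⟨k, hk⟩ := (Nat.dvd_prime_pow Fact.out).1
    (D.sylow_card P ▸ Subgroup.orderOf_dvd_natCard _ hx)
  rcases Nat.eq_zero_or_pos k with rfl | h
  · exact absurd (orderOf_eq_one_iff.1 (by rw [hk.2, pow_zero])) h1
  · rw [hk.2]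
    exact dvd_pow_self p h.ne'

theorem Data.cent_eq (D : Data G (p ^ 2) a) {P : Sylow p G} {x : G}
    (hx : x ∈ (P : Subgroup G)) (h1 : x ≠ 1) :
    Subgroup.centralizer ({x} : Set G) = (P : Subgroup G) := by
  have hp : p.Prime := Fact.out
  haveI := IsPGroup.isMulCommutative_of_card_eq_prime_sq (D.sylow_card P)
  have hle : (P : Subgroup G) ≤ Subgroup.centralizer ({x} : Set G) := fun y hy =>
    Subgroup.mem_centralizer_singleton_iff.2
      (congrArg Subtype.val (mul_comm' (⟨y, hy⟩ : (P : Subgroup G)) ⟨x, hx⟩))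
  refine (Subgroup.eq_of_le_of_card_ge hle ?_).symm
  rw [D.sylow_card P]
  exact Nat.le_of_dvd (pow_pos hp.pos _)
    ((D.cent_dvd hp (D.mem_singular hx h1)).2.2 (dvd_pow_self p two_ne_zero))

theorem Data.ti (D : Data G (p ^ 2) a) {P P' : Sylow p G} {x : G} (hx : x ∈ (P : Subgroup G))
    (hx' : x ∈ (P' : Subgroup G)) (h1 : x ≠ 1) : P = P' :=
  Sylow.ext ((D.cent_eq hx h1).symm.trans (D.cent_eq hx' h1))

theorem Data.card_sylow (D : Data G (p ^ 2) a) : Nat.card (Sylow p G) = p ^ 2 + 1 := by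
  classical
  have hp : p.Prime := Fact.out
  set q := p ^ 2 with hq
  have hT : Nat.card {g : G // p ∣ orderOf g} = q ^ 2 - 1 := by
    rw [← D.card_singular]
    refine Nat.card_congr (Equiv.subtypeEquivRight fun g => ⟨fun h => ⟨p, hp, ?_, h⟩, ?_⟩)
    · exact dvd_pow_self p two_ne_zero
    · rintro ⟨r, hr, hrq, hrg⟩
      exact Data.prime_of_dvd_sq hr hrq ▸ hrg
  let f : (Σ P : Sylow p G, {x : (P : Subgroup G) // x ≠ 1}) → {g : G // p ∣ orderOf g} :=
    fun y => ⟨(y.2.1 : G), D.mem_singular y.2.1.2 fun e => y.2.2 (Subtype.ext e)⟩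
  have hinj : Function.Injective f := by
    rintro ⟨P, ⟨⟨x, hx⟩, hx1⟩⟩ ⟨P', ⟨⟨x', hx'⟩, hx1'⟩⟩ e
    have e' : x = x' := congrArg Subtype.val e
    subst e'
    have hPP := D.ti hx hx' (fun e => hx1 (Subtype.ext e))
    subst hPP
    rfl
  have hsurj : Function.Surjective f := by
    rintro ⟨g, hg⟩
    set C := Subgroup.centralizer ({g} : Set G)
    obtain ⟨k, -, hk⟩ := (Nat.dvd_prime_pow hp).1
      ((D.cent_dvd hp hg).2.2 (dvd_pow_self p two_ne_zero))
    obtain ⟨P, hP⟩ := (IsPGroup.of_card hk).exists_le_sylow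
    have hgC : g ∈ C := Subgroup.mem_centralizer_singleton_iff.2 rfl
    refine ⟨⟨P, ⟨⟨g, hP hgC⟩, fun e => ?_⟩⟩, rfl⟩
    have e' : g = 1 := congrArg Subtype.val e
    rw [e', orderOf_one] at hg
    exact hp.not_dvd_one hg
  haveI := Fintype.ofFinite (Sylow p G)
  have hc := Nat.card_congr (Equiv.ofBijective f ⟨hinj, hsurj⟩)
  have hfib : ∀ P : Sylow p G, Nat.card {x : (P : Subgroup G) // x ≠ 1} = q - 1 := by
    intro P
    haveI := Fintype.ofFinite (P : Subgroup G)
    rw [Nat.card_eq_fintype_card, Fintype.card_subtype_compl, Fintype.card_subtype_eq,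
      ← Nat.card_eq_fintype_card, D.sylow_card P]
  rw [Nat.card_sigma, Finset.sum_congr rfl (fun P _ => hfib P), Finset.sum_const, Finset.card_univ,
    smul_eq_mul, ← Nat.card_eq_fintype_card, hT] at hc
  have hq9 := D.nine
  refine Nat.eq_of_mul_eq_mul_right (show 0 < q - 1 by omega) (hc.trans ?_)
  rw [← Nat.sq_sub_sq, one_pow]

theorem Data.free (D : Data G (p ^ 2) a) {P P' : Sylow p G} (hne : P' ≠ P) {u : G}
    (hu : u ∈ (P : Subgroup G)) (h : u • P' = P') : u = 1 := by
  by_contra h1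
  have hN := Sylow.smul_eq_iff_mem_normalizer.1 h
  have hm : u ∈ (P : Subgroup G) ⊓ Subgroup.normalizer ((P' : Subgroup G) : Set G) := ⟨hu, hN⟩
  have hinf := P.2.inf_normalizer_sylow P'
  erw [hinf] at hm
  exact hne (D.ti hm.1 hm.2 h1).symm

theorem Data.fix_self {P : Sylow p G} {u : G} (hu : u ∈ (P : Subgroup G)) : u • P = P :=
  Sylow.smul_eq_iff_mem_normalizer.2 (Subgroup.le_normalizer hu)

theorem Data.transitive_off (D : Data G (p ^ 2) a) {P P₁ P₂ : Sylow p G} (h1 : P₁ ≠ P)
    (h2 : P₂ ≠ P) : ∃ u ∈ (P : Subgroup G), u • P₁ = P₂ := by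
  classical
  haveI := Fintype.ofFinite (Sylow p G)
  haveI := Fintype.ofFinite (P : Subgroup G)
  let f : ↥(P : Subgroup G) → {P' : Sylow p G // P' ≠ P} := fun u => ⟨(u : G) • P₁, fun e => h1 (by
    rw [← inv_smul_smul (u : G) P₁, e]
    exact Data.fix_self ((P : Subgroup G).inv_mem u.2))⟩
  have hinj : Function.Injective f := fun u v e => by
    have e' : (u : G) • P₁ = (v : G) • P₁ := congrArg Subtype.val e
    have := D.free h1 ((P : Subgroup G).mul_mem ((P : Subgroup G).inv_mem v.2) u.2)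
      (by rw [mul_smul, e', inv_smul_smul])
    exact Subtype.ext (inv_mul_eq_one.1 this).symm
  have hcard : Nat.card (P : Subgroup G) = Nat.card {P' : Sylow p G // P' ≠ P} := by
    rw [D.sylow_card, Nat.card_eq_fintype_card, Fintype.card_subtype_compl, Fintype.card_subtype_eq,
      ← Nat.card_eq_fintype_card, D.card_sylow, Nat.add_sub_cancel]
  obtain ⟨u, hu⟩ := ((Nat.bijective_iff_injective_and_card f).2 ⟨hinj, hcard⟩).2 ⟨P₂, h2⟩
  exact ⟨u, u.2, congrArg Subtype.val hu⟩

theorem Data.three_fixed (D : Data G (p ^ 2) a) (g : G) (P P₁ P₂ : Sylow p G) (h1 : P ≠ P₁)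
    (h2 : P₁ ≠ P₂) (h3 : P ≠ P₂) (e : g • P = P) (e1 : g • P₁ = P₁) (e2 : g • P₂ = P₂) : g = 1 := by
  obtain ⟨u, hu, rfl⟩ := D.transitive_off (P := P) h1.symm h3.symm
  have hu1 : u ≠ 1 := by
    rintro rfl
    exact h2 (one_smul G P₁).symm
  have hgu : g * u * g⁻¹ ∈ (P : Subgroup G) :=
    (Subgroup.mem_normalizer_iff.1 (Sylow.smul_eq_iff_mem_normalizer.1 e) u).1 hu
  have hfix : (g * u * g⁻¹) • P₁ = u • P₁ := by
    rw [mul_smul, mul_smul, show g⁻¹ • P₁ = P₁ from inv_smul_eq_iff.2 e1.symm, e2]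
  have h := D.free h1.symm ((P : Subgroup G).mul_mem ((P : Subgroup G).inv_mem hu) hgu)
    (by rw [mul_smul, hfix, inv_smul_smul])
  have hgC : g ∈ Subgroup.centralizer ({u} : Set G) := by
    refine Subgroup.mem_centralizer_singleton_iff.2 ?_
    rw [inv_mul_eq_one] at h
    exact (eq_mul_inv_iff_mul_eq.1 h).symm
  rw [D.cent_eq hu hu1] at hgC
  exact D.free h1.symm hgC e1

theorem Data.zassenhaus (D : Data G (p ^ 2) a) :
    IsZassenhausGroup G (Sylow p G) ∧ ∃ P P' : Sylow p G, P ≠ P' ∧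
      2 * Nat.card ↥(stabilizer G P ⊓ stabilizer G P') = p ^ 2 - 1 := by
  classical
  haveI := Fintype.ofFinite (Sylow p G)
  have hp : p.Prime := Fact.out
  set q := p ^ 2 with hq
  have hq9 := D.nine
  have hn := D.card_sylow
  rw [Nat.card_eq_fintype_card] at hn
  obtain ⟨P, P', hPP'⟩ := Fintype.exists_pair_of_one_lt_card (α := Sylow p G) (by omega)
  have hthird : ∀ A B : Sylow p G, ∃ C, C ≠ A ∧ C ≠ B := by
    intro A B
    have : ({A, B} : Finset (Sylow p G)).card < Fintype.card (Sylow p G) :=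
      lt_of_le_of_lt Finset.card_le_two (by omega)
    obtain ⟨C, -, hC⟩ := Finset.exists_mem_notMem_of_card_lt_card (t := Finset.univ)
      (show ({A, B} : Finset (Sylow p G)).card < (Finset.univ : Finset (Sylow p G)).card by
        rwa [Finset.card_univ])
    exact ⟨C, fun e => hC (by simp [e]), fun e => hC (by simp [e])⟩
  have htwo : IsMultiplyPretransitive G (Sylow p G) 2 := by
    rw [is_two_pretransitive_iff]
    intro A B C E hAB hCE
    obtain ⟨g, hg⟩ := exists_smul_eq G A C
    have hne : g • B ≠ C := fun e => hAB (smul_left_cancel g (hg.trans e.symm))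
    obtain ⟨u, hu, he⟩ := D.transitive_off hne hCE.symm
    exact ⟨u * g, by rw [mul_smul, hg, Data.fix_self hu], by rw [mul_smul, he]⟩
  -- orders of the stabilisers
  have hd : 2 * Nat.card ↥(stabilizer G P ⊓ stabilizer G P') = q - 1 := by
    have hS : Nat.card (Sylow p G) * Nat.card (stabilizer G P) = Nat.card G := by
      have h := (stabilizer G P).index_mul_card
      rwa [index_stabilizer_of_transitive] at h
    have horb : orbit (stabilizer G P) P' = {X : Sylow p G | X ≠ P} := by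
      ext X
      constructor
      · rintro ⟨s, rfl⟩ e
        refine hPP' (smul_left_cancel (s : G) ?_)
        exact (mem_stabilizer_iff.1 s.2).trans e.symm
      · intro hX
        obtain ⟨u, hu, rfl⟩ := D.transitive_off hPP'.symm hX
        exact ⟨⟨u, mem_stabilizer_iff.2 (Data.fix_self hu)⟩, rfl⟩
    have hS' : (stabilizer (stabilizer G P) P').index = q := by
      rw [index_stabilizer, horb, Set.ncard_eq_toFinset_card',
        show ({X : Sylow p G | X ≠ P} : Set _).toFinset = Finset.univ.erase P by ext; simp,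
        Finset.card_erase_of_mem (Finset.mem_univ P), Finset.card_univ, hn, Nat.add_sub_cancel]
    have hmap : (stabilizer (stabilizer G P) P').map (stabilizer G P).subtype =
        stabilizer G P ⊓ stabilizer G P' := by
      ext g
      constructor
      · rintro ⟨s, hs, rfl⟩
        exact ⟨s.2, hs⟩
      · rintro ⟨h1, h2⟩
        exact ⟨⟨g, h1⟩, h2, rfl⟩
    have hmul := (stabilizer (stabilizer G P) P').index_mul_card
    rw [hS', Nat.card_congr (Subgroup.equivMapOfInjective _ _
      (stabilizer G P).subtype_injective).toEquiv, hmap] at hmul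
    rw [← hmul, D.card, Nat.card_eq_fintype_card, hn, D.qa] at hS
    have ha0 : 0 < q * a := Nat.mul_pos (by omega) (by have := D.qa; omega)
    refine Nat.eq_of_mul_eq_mul_left ha0 (Eq.trans ?_ hS)
    ring
  have hd2 : 2 ≤ Nat.card ↥(stabilizer G P ⊓ stabilizer G P') := by omega
  refine ⟨⟨⟨fun {g g'} h => ?_⟩, htwo, fun g A B C hAB hBC hAC => D.three_fixed g A B C hAB hBC hAC,
    ?_, ?_⟩, P, P', hPP', hd⟩
  · obtain ⟨C, hC, hC'⟩ := hthird P P'
    refine (inv_mul_eq_one.1 (D.three_fixed (g⁻¹ * g') P P' C hPP' hC'.symm hC.symm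
      ?_ ?_ ?_)) <;> rw [mul_smul, inv_smul_eq_iff, h]
  · haveI : Nontrivial ↥(stabilizer G P ⊓ stabilizer G P') :=
      Finite.one_lt_card_iff_nontrivial.1 hd2
    obtain ⟨⟨g, hg⟩, hg1⟩ := exists_ne (1 : ↥(stabilizer G P ⊓ stabilizer G P'))
    exact ⟨g, fun e => hg1 (Subtype.ext e), P, P', hPP', hg.1, hg.2⟩
  · intro N hN hNt
    haveI := hNt
    by_contra hcon
    push Not at hcon
    have hNc : Nat.card N = 2 * a := by
      have h := (stabilizer N P).index_mul_card
      rw [index_stabilizer_of_transitive, hcon P, Subgroup.card_bot, mul_one, D.card_sylow,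
        D.qa] at h
      exact h.symm
    have hNP : ∀ n : G, n ∈ N → n ∈ (P : Subgroup G) → n = 1 := fun n hn hnP => by
      have h : (⟨n, hn⟩ : N) ∈ stabilizer N P := Data.fix_self hnP
      rw [hcon P, Subgroup.mem_bot] at h
      exact congrArg Subtype.val h
    -- `P` permutes the non-identity elements of `N` transitively
    have hall : ∀ t s : G, t ∈ N → t ≠ 1 → s ∈ N → s ≠ 1 → orderOf t = orderOf s := by
      intro t s ht ht1 hs hs1
      haveI := Fintype.ofFinite N
      haveI := Fintype.ofFinite (P : Subgroup G)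
      let f : ↥(P : Subgroup G) → {n : N // n ≠ 1} := fun x =>
        ⟨⟨(x : G) * t * (x : G)⁻¹, hN.conj_mem t ht x⟩, fun e => ht1 (by
          simpa using conj_eq_one_iff.1 (congrArg Subtype.val e))⟩
      have hinj : Function.Injective f := by
        intro x y e
        have e' : (x : G) * t * (x : G)⁻¹ = (y : G) * t * (y : G)⁻¹ :=
          congrArg (fun z : {n : N // n ≠ 1} => ((z : N) : G)) e
        by_contra hxy
        refine ht1 (hNP t ht ?_)
        have hz : ((y⁻¹ * x : (P : Subgroup G)) : G) ≠ 1 := fun h =>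
          hxy (inv_mul_eq_one.1 (Subtype.ext h)).symm
        rw [← D.cent_eq (y⁻¹ * x).2 hz]
        refine Subgroup.mem_centralizer_singleton_iff.2 ?_
        push_cast
        calc t * ((y : G)⁻¹ * x) = (y : G)⁻¹ * ((y : G) * t * (y : G)⁻¹) * x := by group
          _ = _ := by rw [← e']; group
      have hcard : Nat.card (P : Subgroup G) = Nat.card {n : N // n ≠ 1} := by
        rw [D.sylow_card, Nat.card_eq_fintype_card (α := {n : N // n ≠ 1}),
          Fintype.card_subtype_compl, Fintype.card_subtype_eq, ← Nat.card_eq_fintype_card, hNc,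
          ← D.qa, Nat.add_sub_cancel]
      obtain ⟨x, hx⟩ := ((Nat.bijective_iff_injective_and_card f).2 ⟨hinj, hcard⟩).2
        ⟨⟨s, hs⟩, fun e => hs1 (congrArg Subtype.val e)⟩
      have hx' : (x : G) * t * (x : G)⁻¹ = s :=
        congrArg (fun z : {n : N // n ≠ 1} => ((z : N) : G)) hx
      rw [← hx']
      exact (MulEquiv.orderOf_eq (MulAut.conj (x : G)) t).symm
    obtain ⟨r, hr, hra⟩ := Nat.exists_prime_and_dvd (show a ≠ 1 by have := D.qa; omega)
    haveI := Fact.mk hr
    obtain ⟨t, ht⟩ := exists_prime_orderOf_dvd_card' 2 (show 2 ∣ Nat.card N from hNc ▸ dvd_mul_right 2 a)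
    obtain ⟨s, hs⟩ := exists_prime_orderOf_dvd_card' r (show r ∣ Nat.card N from hNc ▸ hra.mul_left 2)
    rw [← Subgroup.orderOf_coe] at ht hs
    have h2r := hall t s t.2 (fun e => by rw [e, orderOf_one] at ht; omega) s.2
      (fun e => by rw [e, orderOf_one] at hs; exact hr.ne_one hs.symm)
    rw [ht, hs] at h2r
    subst h2r
    exact Nat.not_even_iff_odd.2 D.aodd (even_iff_two_dvd.2 hra)

/-- A group with the degrees of `PSL₂(p²)` is a `PSL₂` over a field of `p²` elements. -/
theorem Data.recognise (D : Data G (p ^ 2) a) :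
    ∃ (K : Type) (_ : Field K) (_ : Fintype K), Fintype.card K = p ^ 2 ∧
      Nonempty (G ≃* Matrix.ProjectiveSpecialLinearGroup (Fin 2) K) := by
  classical
  haveI := Fintype.ofFinite (Sylow p G)
  have hq9 := D.nine
  obtain ⟨hZ, P, P', hne, hd⟩ := D.zassenhaus
  have hn : Fintype.card (Sylow p G) = p ^ 2 + 1 := by
    rw [← Nat.card_eq_fintype_card]; exact D.card_sylow
  have heven : Even (Nat.card ↥(stabilizer G P ⊓ stabilizer G P')) := by
    obtain ⟨m, hm⟩ := D.aodd
    have := D.qa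
    exact ⟨m, by omega⟩
  obtain ⟨p', f, K, iK, iF, -, -, hK, hcard, he⟩ :=
    Cfsg.Agent.S0742.result hZ hne heven (by omega)
  exact ⟨K, iK, iF, by omega, he⟩

end Cfsg.Lib.DegreeSquare
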