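import Cfsg.Agent.Lib.TwoDim.DegreeSets
import Cfsg.Agent.Lib.Char.OddSquareSum

/-!
# The first column of the character table of `PSL₂(q)`, and groups sharing it
-/

set_option autoImplicit false
set_option linter.unusedSectionVars false
set_option linter.style.haveILetI false

namespace Cfsg.Lib.DegreeSquare

open Cfsg Cfsg.Lib.Char Cfsg.Lib.TwoDim
open scoped MatrixGroups

universe u v

section PSL

variable {F : Type u} [Field F] [Fintype F] [DecidableEq F]

local notation "q" => Fintype.card F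

local notation "Z₂" => Subgroup.center SL(2, F)

/-- A half of the cuspidal character of the quadratic character is faithful on the centre. -/
theorem half_cu_neg_one (h4 : q % 4 = 1) {φ : ↥(normOne F) →* ℂˣ} (h2 : φ ^ 2 = 1) (h1 : φ ≠ 1)
    {χ : SL(2, F) → ℂ} (h : IsHalf (cuQ φ) χ) : χ (-1) = -χ 1 := by
  have hodd : Odd q := Nat.odd_iff.2 (by omega)
  have hc : ringChar F ≠ 2 := fun e => by
    have := FiniteField.even_card_iff_char_two.1 e
    omega
  have hN : Nat.card ↥(normOne F) = 2 * ((q + 1) / 2) := by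
    rw [card_normOne]; omega
  have hmem : Units.map (inc (F := F)).toMonoidHom (-1) ∈ normOne F := by
    rw [mem_normOne]
    show nm (inc ((-1 : Fˣ) : F)) = 1
    rw [nm_inc_eq_one]; simp
  set k : ↥(normOne F) := ⟨_, hmem⟩ with hk
  have hk2 : k ^ 2 = 1 :=
    Subtype.ext (by rw [Subgroup.coe_pow, hk, ← map_pow, neg_one_sq, map_one]; rfl)
  have hk1 : k ≠ 1 := by
    intro e
    have e' : inc (-1 : F) = inc (1 : F) := by
      have := congrArg (fun z : ↥(normOne F) => ((z : (Quad F)ˣ) : Quad F)) e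
      simpa [hk] using this
    exact Ring.neg_one_ne_one_of_char_ne_two hc ((inc (F := F)).injective e')
  have hkm : k ^ ((q + 1) / 2) ≠ 1 := by
    obtain ⟨m, hm⟩ : Odd ((q + 1) / 2) := Nat.odd_iff.2 (by omega)
    rw [hm, pow_succ, pow_mul, hk2, one_pow, one_mul]
    exact hk1
  have hφ := (invol_hom_cases hN h2 h1 k).2 hkm
  have e := lift1_apply φ k
  rw [hφ] at e
  have hcu : cuQ φ (-1) = -cuQ φ 1 := by
    rw [neg_one_val_cuQ, show inc (-1 : F) = inc ((-1 : Fˣ) : F) by simp]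
    simp only [hk, Units.coe_map] at e
    erw [e, neg_one_mul]
  obtain ⟨ν, ψ, -, hs⟩ := h
  have hswap : ψ (-1) = χ (-1) := by
    rw [← hs.swap (-1)]
    congr 1
    refine Subtype.ext ?_
    show (x0 ν : Matrix (Fin 2) (Fin 2) F) * ((-1 : SL(2, F)) : Matrix (Fin 2) (Fin 2) F) *
      (((x0 ν)⁻¹ : GL (Fin 2) F) : Matrix (Fin 2) (Fin 2) F) = _
    rw [Matrix.SpecialLinearGroup.coe_neg, Matrix.SpecialLinearGroup.coe_one, mul_neg, mul_one,
      neg_mul, Units.mul_inv]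
  have hone : ψ 1 = χ 1 := by
    rw [← hs.swap 1, map_one]
  rw [hs.eq, Pi.add_apply, Pi.add_apply, hswap, hone] at hcu
  linear_combination (1 / 2 : ℂ) * hcu

/-- The degrees of `PSL₂`, inflated to `SL₂`. -/
theorem psl_cases (h4 : q % 4 = 1 ∨ q = 4) (χ : IrrCharacter (SL(2, F) ⧸ Z₂)) :
    (∀ g : SL(2, F), (χ : SL(2, F) ⧸ Z₂ → ℂ) g = 1) ∨
      (∀ g : SL(2, F), (χ : SL(2, F) ⧸ Z₂ → ℂ) g = stR F g) ∨
      (χ : SL(2, F) ⧸ Z₂ → ℂ) 1 = ((q + 1 : ℕ) : ℂ) ∨ (χ : SL(2, F) ⧸ Z₂ → ℂ) 1 = ((q - 1 : ℕ) : ℂ) ∨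
      (q % 4 = 1 ∧ (χ : SL(2, F) ⧸ Z₂ → ℂ) 1 = (((q + 1) / 2 : ℕ) : ℂ)) := by
  have hone : (((1 : SL(2, F))) : SL(2, F) ⧸ Z₂) = 1 := rfl
  have hirr := isIrrCharacter_inflate Z₂ χ.2
  rcases sl_cases hirr with h | h | ⟨α, -, h⟩ | ⟨φ, -, h⟩ | ⟨ho, α, -, -, h⟩ | ⟨ho, φ, h2, h1, h⟩
  · exact Or.inl fun g => (congrFun h g).trans (congrFun oneR_eq g)
  · exact Or.inr (Or.inl fun g => congrFun h g)
  · refine Or.inr (Or.inr (Or.inl ?_))
    rw [← hone]
    exact (congrFun h 1).trans (psR_one α)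
  · refine Or.inr (Or.inr (Or.inr (Or.inl ?_)))
    rw [← hone]
    exact (congrFun h 1).trans (cuR_one _)
  · refine Or.inr (Or.inr (Or.inr (Or.inr ⟨?_, ?_⟩)))
    · obtain ⟨m, hm⟩ := ho
      omega
    · rw [← hone]
      exact h.degree_ps ho
  · exfalso
    have h4' : q % 4 = 1 := by
      obtain ⟨m, hm⟩ := ho
      omega
    have hneg := half_cu_neg_one h4' h2 h1 h
    have hmem : (-1 : SL(2, F)) ∈ Z₂ :=
      Subgroup.mem_center_iff.2 fun g => Subtype.ext (by simp)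
    have he : (((-1 : SL(2, F))) : SL(2, F) ⧸ Z₂) = ((1 : SL(2, F)) : SL(2, F) ⧸ Z₂) :=
      (QuotientGroup.eq_one_iff _).2 hmem
    have h0 : (χ : SL(2, F) ⧸ Z₂ → ℂ) ((1 : SL(2, F)) : SL(2, F) ⧸ Z₂) = 0 := by
      have := congrArg (χ : SL(2, F) ⧸ Z₂ → ℂ) he
      linear_combination (1 / 2 : ℂ) * hneg - (1 / 2 : ℂ) * this
    exact χ.2.apply_one_ne_zero h0

/-- `PSL₂` has one linear character. -/
theorem psl_card_one (h4 : q % 4 = 1 ∨ q = 4) (hq : 4 ≤ q) :
    Nat.card {χ : IrrCharacter (SL(2, F) ⧸ Z₂) // (χ : SL(2, F) ⧸ Z₂ → ℂ) 1 = ((1 : ℕ) : ℂ)} = 1 := by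
  have key : ∀ χ : IrrCharacter (SL(2, F) ⧸ Z₂), (χ : SL(2, F) ⧸ Z₂ → ℂ) 1 = ((1 : ℕ) : ℂ) →
      χ = ⟨fun _ => 1, isIrrCharacter_one⟩ := by
    intro χ hd
    have hne : ∀ n : ℕ, (χ : SL(2, F) ⧸ Z₂ → ℂ) 1 = (n : ℂ) → n = 1 := fun n hn => by
      exact_mod_cast hn.symm.trans hd
    rcases psl_cases h4 χ with h | h | h | h | ⟨h', h⟩
    · refine Subtype.ext (funext fun x => ?_)
      obtain ⟨g, rfl⟩ := QuotientGroup.mk_surjective x
      exact h g
    · have := hne q ((h 1).trans stR_one); omega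
    · have := hne _ h; omega
    · have := hne _ h; omega
    · have := hne _ h; omega
  exact Nat.card_eq_one_iff_unique.2 ⟨⟨fun a b => Subtype.ext
    ((key _ a.2).trans (key _ b.2).symm)⟩, ⟨⟨⟨fun _ => 1, isIrrCharacter_one⟩, by simp⟩⟩⟩

end PSL

section Transfer

variable {G : Type u} [Group G] [Finite G] {H : Type v} [Group H] [Finite H]

/-- Equal multiplicities of all degrees give a degree preserving bijection. -/
theorem exists_degree_equiv
    (h : ∀ d : ℕ, Nat.card {χ : IrrCharacter G // (χ : G → ℂ) 1 = (d : ℂ)} =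
      Nat.card {χ : IrrCharacter H // (χ : H → ℂ) 1 = (d : ℂ)}) :
    ∃ e : IrrCharacter G ≃ IrrCharacter H, ∀ χ, ((e χ : IrrCharacter H) : H → ℂ) 1 = (χ : G → ℂ) 1 := by
  classical
  haveI := Fintype.ofFinite G
  haveI := Fintype.ofFinite H
  have fG : ∀ d : ℕ, {χ : IrrCharacter G // charDegree (χ : G → ℂ) = d} ≃
      {χ : IrrCharacter G // (χ : G → ℂ) 1 = (d : ℂ)} := fun d => Equiv.subtypeEquivRight fun χ => by
    rw [← cast_charDegree χ, Nat.cast_inj]
  have fH : ∀ d : ℕ, {χ : IrrCharacter H // charDegree (χ : H → ℂ) = d} ≃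
      {χ : IrrCharacter H // (χ : H → ℂ) 1 = (d : ℂ)} := fun d => Equiv.subtypeEquivRight fun χ => by
    rw [← cast_charDegree χ, Nat.cast_inj]
  have e : ∀ d : ℕ, {χ : IrrCharacter G // charDegree (χ : G → ℂ) = d} ≃
      {χ : IrrCharacter H // charDegree (χ : H → ℂ) = d} := fun d =>
    (fG d).trans (((Finite.card_eq.1 (h d)).some).trans (fH d).symm)
  let E := (Equiv.sigmaFiberEquiv fun χ : IrrCharacter G => charDegree (χ : G → ℂ)).symm.trans
    ((Equiv.sigmaCongrRight e).trans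
      (Equiv.sigmaFiberEquiv fun χ : IrrCharacter H => charDegree (χ : H → ℂ)))
  refine ⟨E, fun χ => ?_⟩
  rw [← cast_charDegree (E χ), ← cast_charDegree χ, Nat.cast_inj]
  exact (e (charDegree (χ : G → ℂ)) ⟨χ, rfl⟩).2

/-- Equal multiplicities of all degrees give equal orders. -/
theorem card_eq_of_degrees
    (h : ∀ d : ℕ, Nat.card {χ : IrrCharacter G // (χ : G → ℂ) 1 = (d : ℂ)} =
      Nat.card {χ : IrrCharacter H // (χ : H → ℂ) 1 = (d : ℂ)}) : Nat.card G = Nat.card H := by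
  classical
  haveI := Fintype.ofFinite G
  haveI := Fintype.ofFinite H
  obtain ⟨e, he⟩ := exists_degree_equiv h
  have : (Nat.card G : ℂ) = Nat.card H := by
    rw [← sum_sq_degree, ← sum_sq_degree (G := H)]
    exact Fintype.sum_equiv e _ _ fun χ => by rw [he]
  exact_mod_cast this

end Transfer

end Cfsg.Lib.DegreeSquare
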