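import Cfsg.Agent.Lib.Recog.DegreeSquare.Action
import Cfsg.Agent.Lib.Char.Linear
import Cfsg.Agent.Lib.Dickson.PSLTwo
import Cfsg.Agent.Lib.Recog.Icosahedral
import Cfsg.Agent.Lib.OrderLeHundred
import Cfsg.Agent.S0252

/-!
# `PSL₂(p²)` is determined by the multiset of its irreducible character degrees
-/

set_option autoImplicit false
set_option linter.style.haveILetI false

namespace Cfsg.Lib.DegreeSquare

open Cfsg Cfsg.Lib.Char Cfsg.Lib.TwoDim

/-- A finite group with the first column of the character table of `PSL₂(p²)` is `PSL₂(p²)`. -/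
theorem iso_psl_of_degrees {F : Type*} [Field F] [Fintype F] (p : ℕ) (hp : p.Prime)
    (hF : Fintype.card F = p ^ 2) {G : Type*} [Group G] [Finite G]
    (h : ∀ d : ℕ, Nat.card {χ : Cfsg.IrrCharacter G // (χ : G → ℂ) 1 = (d : ℂ)} =
      Nat.card {χ : Cfsg.IrrCharacter (Matrix.ProjectiveSpecialLinearGroup (Fin 2) F) // (χ : Matrix.ProjectiveSpecialLinearGroup (Fin 2) F → ℂ) 1 = (d : ℂ)}) :
    Nonempty (G ≃* Matrix.ProjectiveSpecialLinearGroup (Fin 2) F) := by
  classical
  haveI := Fact.mk hp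
  have hp2 := hp.two_le
  haveI := Fintype.ofFinite G
  have hq4 : 4 ≤ Fintype.card F := by rw [hF]; nlinarith
  have hmod : Fintype.card F % 4 = 1 ∨ Fintype.card F = 4 := by
    rcases hp.eq_two_or_odd with rfl | h2
    · exact Or.inr hF
    · obtain ⟨m, rfl⟩ : ∃ m, p = 2 * m + 1 := ⟨p / 2, by omega⟩
      left
      rw [hF, show (2 * m + 1) ^ 2 = 4 * (m * m + m) + 1 by ring]
      omega
  have hcard : Nat.card G = Nat.card (Matrix.ProjectiveSpecialLinearGroup (Fin 2) F) :=
    card_eq_of_degrees h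
  have hone : Nat.card {χ : IrrCharacter G // (χ : G → ℂ) 1 = ((1 : ℕ) : ℂ)} = 1 :=
    (h 1).trans (psl_card_one hmod hq4)
  have hC := Cfsg.Lib.Linear.Two.card_PSL_two (F := F)
  rcases hp.eq_two_or_odd with rfl | hodd
  · have h4 : Fintype.card F = 4 := hF
    rw [h4] at hC
    norm_num at hC
    have h60 : Nat.card G = 60 := by rw [hcard, Nat.card_eq_fintype_card, hC]
    have hperf : commutator G = ⊤ := by
      rw [← Subgroup.index_eq_one, ← card_degree_one, ← hone]
      exact Nat.card_congr (Equiv.subtypeEquivRight fun χ => by simp)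
    haveI : Nontrivial G := Finite.one_lt_card_iff_nontrivial.1 (by omega)
    have hns : ¬ Group.IsSolvable G := fun hs => by
      haveI := hs
      exact (Group.IsSolvable.commutator_lt_top_of_nontrivial G).ne hperf
    haveI := Cfsg.Lib.Recog.Icosa.simple_of_sixty h60 hns
    obtain ⟨e⟩ := Cfsg.Lib.OrderLeHundred.iso_alternating_five h60
    obtain ⟨e'⟩ := Cfsg.Agent.S0252.result h4
    exact ⟨e.trans e'.symm⟩
  · have h4 : Fintype.card F % 4 = 1 := hmod.resolve_right fun h4 => by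
      have : p ∣ 4 := by rw [← h4, hF]; exact dvd_pow_self p two_ne_zero
      have hle := Nat.le_of_dvd (by norm_num) this
      interval_cases p <;> omega
    have h9 : 9 ≤ p ^ 2 := by
      have h3 : 3 ≤ p := by omega
      nlinarith
    rw [Nat.gcd_eq_left (show 2 ∣ Fintype.card F - 1 by omega), hF] at hC
    obtain ⟨e, he⟩ := exists_degree_equiv h
    haveI : CharP F p := by
      obtain ⟨c, hc⟩ := CharP.exists F
      obtain ⟨n, hn, hcn⟩ := FiniteField.card F c
      have hcp : c = p := (Nat.prime_dvd_prime_iff_eq hn hp).1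
        (hn.dvd_of_dvd_pow (n := 2) (by rw [← hF, hcn]; exact dvd_pow_self c n.ne_zero))
      exact hcp ▸ hc
    obtain ⟨hst, hstd⟩ := psl_steinberg (F := F) p hp two_ne_zero hF
    have D : Data G (p ^ 2) ((p ^ 2 + 1) / 2) := by
      refine ⟨?_, by omega, Nat.odd_iff.2 (by omega), h9, ?_, ?_, ?_, ?_⟩
      · refine Nat.eq_of_mul_eq_mul_left two_pos ((hcard ▸ hC).trans ?_)
        obtain ⟨b, hb⟩ : ∃ b, p ^ 2 = 2 * b + 1 := ⟨p ^ 2 / 2, by omega⟩
        rw [hb, show (2 * b + 1 + 1) / 2 = b + 1 by omega,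
          show 2 * b + 1 - 1 = 2 * b by omega,
          show (2 * b + 1) ^ 2 - 1 = 4 * b * (b + 1) by
            rw [show (2 * b + 1) ^ 2 = 4 * b * (b + 1) + 1 by ring, Nat.add_sub_cancel]]
        ring
      · intro χ hχ g
        obtain ⟨⟨hs⟩, -⟩ := Nat.card_eq_one_iff_unique.1 hone
        have := hs ⟨χ, by simpa using hχ⟩ ⟨⟨fun _ => 1, isIrrCharacter_one⟩, by simp⟩
        exact congrFun (congrArg (fun z : {χ : IrrCharacter G // _} => (z.1 : G → ℂ)) this) g
      · intro χ ψ hχ hψ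
        obtain ⟨⟨hs⟩, -⟩ := Nat.card_eq_one_iff_unique.1 hst
        have key : ∀ η : IrrCharacter G, (η : G → ℂ) 1 = ((p ^ 2 : ℕ) : ℂ) →
            p ∣ Cfsg.charDegree ((e η : IrrCharacter _) :
              Matrix.ProjectiveSpecialLinearGroup (Fin 2) F → ℂ) := fun η hη => by
          rw [charDegree_nat ((he η).trans hη)]
          exact dvd_pow_self p two_ne_zero
        exact e.injective (congrArg Subtype.val (hs ⟨e χ, key χ hχ⟩ ⟨e ψ, key ψ hψ⟩))
      · obtain ⟨-, ⟨χ, hχ⟩⟩ := Nat.card_eq_one_iff_unique.1 hst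
        refine ⟨e.symm χ, ?_⟩
        rw [← he, Equiv.apply_symm_apply, ← cast_charDegree χ, hstd χ hχ, hF]
      · intro χ
        rw [← he χ]
        rcases psl_cases hmod (e χ) with h' | h' | h' | h' | ⟨-, h'⟩
        · exact Or.inl (h' 1)
        · exact Or.inr (Or.inl ((h' 1).trans (by rw [stR_one, hF])))
        · exact Or.inr (Or.inr (Or.inl (by rw [← hF]; exact h')))
        · exact Or.inr (Or.inr (Or.inr (Or.inl (by rw [← hF]; exact h'))))
        · exact Or.inr (Or.inr (Or.inr (Or.inr (by rw [← hF]; exact h'))))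
    obtain ⟨K, iK, iF, hK, ⟨eG⟩⟩ := D.recognise
    exact ⟨eG.trans (Cfsg.Lib.Dickson.pslEquiv
      (FiniteField.ringEquivOfCardEq (hK.trans hF.symm)))⟩

end Cfsg.Lib.DegreeSquare
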